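import Mathlib
import Groth.Prelude.Def_SymProd
import Groth.Agent.Lib.IsQuot25.Exists
import Groth.Agent.Lib.FinAffine12.Basic

/-!
Affine charts of fibre powers and symmetric products under (AF) (ns `Groth.Agent.SymProd14`).
-/

set_option backward.isDefEq.respectTransparency.types false

universe u

open CategoryTheory CategoryTheory.Limits AlgebraicGeometry TopologicalSpace

namespace Groth.Agent.SymProd14

variable {X S : Scheme.{u}} {f : X ⟶ S} {d : ℕ}

/-- The open of the fibre power cut out by `U ⊆ X` over `V ⊆ S`. -/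
def box (U : X.Opens) (V : S.Opens) : (SymProd.fibPow f d).Opens :=
  ⟨(WidePullback.base (fun _ : Fin d => f)).base ⁻¹' (V : Set S) ∩
    ⋂ i : Fin d, (WidePullback.π (fun _ : Fin d => f) i).base ⁻¹' (U : Set X),
    (V.2.preimage (Scheme.Hom.continuous _)).inter
      (isOpen_iInter_of_finite fun _ => U.2.preimage (Scheme.Hom.continuous _))⟩

theorem isAffineOpen_box {U : X.Opens} (hU : IsAffineOpen U) {V : S.Opens} (hV : IsAffineOpen V)
    (hUV : U ≤ f ⁻¹ᵁ V) : IsAffineOpen (box (f := f) (d := d) U V) := by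
  let W := box (f := f) (d := d) U V
  let g : (U : Scheme.{u}) ⟶ (V : Scheme.{u}) := f.resLE V U hUV
  let P := widePullback (V : Scheme.{u}) (fun _ : Fin d => (U : Scheme.{u})) (fun _ => g)
  haveI : IsAffine (U : Scheme.{u}) := hU
  haveI : IsAffine (V : Scheme.{u}) := hV
  haveI : ∀ j, IsAffine ((WidePullbackShape.wideCospan (V : Scheme.{u}) (fun _ : Fin d => (U : Scheme.{u}))
      (fun _ => g)).obj j) := fun j => by cases j <;> assumption
  haveI hP : IsAffine P := Scheme.isAffine_of_isLimit _ (limit.isLimit _)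
  let m : P ⟶ SymProd.fibPow f d :=
    WidePullback.lift (WidePullback.base (fun _ : Fin d => g) ≫ V.ι)
      (fun i => WidePullback.π (fun _ : Fin d => g) i ≫ U.ι) (fun i => by
        rw [Category.assoc, ← Scheme.Hom.resLE_comp_ι f hUV, WidePullback.π_arrow_assoc])
  have hWV : Set.range (W.ι ≫ WidePullback.base (fun _ : Fin d => f)) ⊆ Set.range V.ι := by
    rintro _ ⟨w, rfl⟩
    rw [Scheme.Opens.range_ι]
    exact (w.2 : (W.ι w) ∈ (W : Set ↥(SymProd.fibPow f d))).1
  have hWU : ∀ i, Set.range (W.ι ≫ WidePullback.π (fun _ : Fin d => f) i) ⊆ Set.range U.ι := by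
    rintro i _ ⟨w, rfl⟩
    rw [Scheme.Opens.range_ι]
    exact Set.mem_iInter.1 (w.2 : (W.ι w) ∈ (W : Set ↥(SymProd.fibPow f d))).2 i
  let b : (W : Scheme.{u}) ⟶ P :=
    WidePullback.lift (IsOpenImmersion.lift V.ι _ hWV) (fun i => IsOpenImmersion.lift U.ι _ (hWU i))
      (fun i => by
        rw [← cancel_mono V.ι, Category.assoc, Scheme.Hom.resLE_comp_ι, IsOpenImmersion.lift_fac_assoc,
          IsOpenImmersion.lift_fac, Category.assoc, WidePullback.π_arrow])
  have hm : Set.range m ⊆ Set.range W.ι := by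
    rintro _ ⟨z, rfl⟩
    rw [Scheme.Opens.range_ι]
    refine ⟨?_, Set.mem_iInter.2 fun i => ?_⟩
    · show WidePullback.base (fun _ : Fin d => f) (m z) ∈ V
      rw [← Scheme.Hom.comp_apply, WidePullback.lift_base]
      exact (WidePullback.base (fun _ : Fin d => g) z).2
    · show WidePullback.π (fun _ : Fin d => f) i (m z) ∈ U
      rw [← Scheme.Hom.comp_apply, WidePullback.lift_π]
      exact (WidePullback.π (fun _ : Fin d => g) i z).2
  let a : P ⟶ (W : Scheme.{u}) := IsOpenImmersion.lift W.ι m hm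
  have hbm : b ≫ m = W.ι := by
    apply WidePullback.hom_ext
    · intro i
      rw [Category.assoc, WidePullback.lift_π, ← Category.assoc, WidePullback.lift_π, IsOpenImmersion.lift_fac]
    · rw [Category.assoc, WidePullback.lift_base, ← Category.assoc, WidePullback.lift_base, IsOpenImmersion.lift_fac]
  let e : (W : Scheme.{u}) ≅ P :=
    { hom := b
      inv := a
      hom_inv_id := by rw [← cancel_mono W.ι, Category.assoc, IsOpenImmersion.lift_fac, hbm, Category.id_comp]
      inv_hom_id := by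
        apply WidePullback.hom_ext
        · intro i
          rw [Category.assoc, WidePullback.lift_π, Category.id_comp, ← cancel_mono U.ι, Category.assoc,
            IsOpenImmersion.lift_fac, ← Category.assoc, IsOpenImmersion.lift_fac, WidePullback.lift_π]
        · rw [Category.assoc, WidePullback.lift_base, Category.id_comp, ← cancel_mono V.ι, Category.assoc,
            IsOpenImmersion.lift_fac, ← Category.assoc, IsOpenImmersion.lift_fac, WidePullback.lift_base] }
  haveI : IsIso b := ⟨a, e.hom_inv_id, e.inv_hom_id⟩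
  exact IsAffine.of_isIso b

/-- An affine box around a point of the fibre power, over a given affine of the base. -/
theorem exists_box (hAF : SymProd.IsAF f) (x : ↥(SymProd.fibPow f d)) {V : S.Opens} (hV : IsAffineOpen V)
    (hx : WidePullback.base (fun _ : Fin d => f) x ∈ V) :
    ∃ U : X.Opens, IsAffineOpen U ∧ U ≤ f ⁻¹ᵁ V ∧
      ∀ i, WidePullback.π (fun _ : Fin d => f) i x ∈ U := by
  classical
  let T : Finset X := Finset.univ.image fun i => WidePullback.π (fun _ : Fin d => f) i x
  have hT : ∀ t ∈ T, f t = WidePullback.base (fun _ : Fin d => f) x := by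
    intro t ht
    obtain ⟨i, -, rfl⟩ := Finset.mem_image.1 ht
    rw [← Scheme.Hom.comp_apply, WidePullback.π_arrow]
  obtain ⟨U₀, hU₀, hTU⟩ := hAF _ T hT
  haveI : IsAffine (U₀ : Scheme.{u}) := hU₀
  obtain ⟨g, hg, hgT⟩ := FinAffine12.exists_basicOpen_of_finite (Y := (U₀ : Scheme.{u}))
    (U₀.ι ⁻¹ᵁ (f ⁻¹ᵁ V)) (U₀.ι ⁻¹' (T : Set X))
    (Set.Finite.preimage U₀.ι.isOpenEmbedding.injective.injOn T.finite_toSet)
    (fun z hz => show f (U₀.ι z) ∈ V from (hT _ hz).symm ▸ hx)
  refine ⟨U₀.ι ''ᵁ ((U₀ : Scheme.{u}).basicOpen g),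
    ((isAffineOpen_top _).basicOpen g).image_of_isOpenImmersion _, ?_, fun i => ?_⟩
  · rintro _ ⟨z, hz, rfl⟩
    exact hg hz
  · have hi : WidePullback.π (fun _ : Fin d => f) i x ∈ T := Finset.mem_image.2 ⟨i, Finset.mem_univ _, rfl⟩
    exact ⟨⟨_, hTU _ hi⟩, hgT (show U₀.ι ⟨_, hTU _ hi⟩ ∈ (T : Set X) from hi), rfl⟩

theorem preimage_box (U : X.Opens) (V : S.Opens) (σ : Equiv.Perm (Fin d)) :
    SymProd.permHom f d σ ⁻¹ᵁ box (f := f) U V = box (f := f) U V := by
  ext z
  show (_ ∧ _) ↔ (_ ∧ _)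
  simp only [Set.mem_preimage, Set.mem_iInter]
  refine and_congr ?_ ⟨fun h i => ?_, fun h i => ?_⟩
  · rw [← Scheme.Hom.comp_apply, SymProd.permHom_base]
  · have := h (σ i)
    rwa [← Scheme.Hom.comp_apply, SymProd.permHom_π, Equiv.symm_apply_apply] at this
  · rw [← Scheme.Hom.comp_apply, SymProd.permHom_π]
    exact h _

end Groth.Agent.SymProd14
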